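import Cfsg.Agent.SelfNorm.Simple
import Cfsg.Agent.CAGroups.Simple
import Cfsg.Agent.DicksonPSL2.Classification

/-!
Simple groups in which every non-abelian subgroup is self-normalizing are the `PSL₂(2ⁿ)` with
`2ⁿ - 1` prime.
-/

set_option autoImplicit false
set_option linter.unusedSectionVars false

namespace CfsgLib.SelfNorm

open scoped MatrixGroups
open CfsgLib.DicksonPSL2

theorem SelfNormalizingNonabelian.congr {G G' : Type*} [Group G] [Group G'] (e : G ≃* G')
    (h : SelfNormalizingNonabelian G) : SelfNormalizingNonabelian G' := by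
  intro H hH
  have hH' : ¬ IsMulCommutative (H.comap e.toMonoidHom) := fun hc => hH
    (isMulCommutative_of_forall fun a ha b hb => e.symm.injective (by
      rw [map_mul, map_mul]
      exact comm_of_isMulCommutative hc (show e (e.symm a) ∈ H by rwa [e.apply_symm_apply])
        (show e (e.symm b) ∈ H by rwa [e.apply_symm_apply])))
  refine le_antisymm (fun g hg => ?_) Subgroup.le_normalizer
  have h1 : e.symm g ∈ Subgroup.normalizer ((H.comap e.toMonoidHom : Subgroup G) : Set G) :=
    Subgroup.le_normalizer_comap e.toMonoidHom (show e (e.symm g) ∈ _ by rwa [e.apply_symm_apply])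
  rw [h _ hH'] at h1
  simpa using h1

/-- `[[a, x], [0, a⁻¹]]`. -/
def tri {F : Type*} [Field F] (a : Fˣ) (x : F) : SL(2, F) :=
  ⟨!![(a : F), x; 0, ↑a⁻¹], by simp [Matrix.det_fin_two]⟩

theorem coe_tri {F : Type*} [Field F] (a : Fˣ) (x : F) :
    (tri a x).1 = !![(a : F), x; 0, ↑a⁻¹] := rfl

theorem tri_zero_inv {F : Type*} [Field F] (a : Fˣ) : (tri a 0)⁻¹ = tri a⁻¹ 0 := by
  refine inv_eq_of_mul_eq_one_right (Subtype.ext ?_)
  rw [Matrix.SpecialLinearGroup.coe_mul, coe_tri, coe_tri, Matrix.SpecialLinearGroup.coe_one]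
  ext i j
  fin_cases i <;> fin_cases j <;> simp [Matrix.mul_apply, Fin.sum_univ_two]

/-- In `SL(2, F)`, `|F| = 2ⁿ`, with all non-abelian subgroups self-normalizing, `2ⁿ - 1` is prime. -/
theorem prime_card_sub_one {F : Type*} [Field F] [Fintype F] [CharP F 2]
    (h : SelfNormalizingNonabelian SL(2, F)) (h4 : 4 ≤ Fintype.card F) :
    (Fintype.card F - 1).Prime := by
  classical
  have hu : Nat.card Fˣ = Fintype.card F - 1 := by rw [Nat.card_units, Nat.card_eq_fintype_card]
  rw [← hu]
  by_contra hnp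
  set r := (Nat.card Fˣ).minFac
  have hr : r.Prime := Nat.minFac_prime (by omega)
  have := Fact.mk hr
  obtain ⟨d, hd⟩ := exists_prime_orderOf_dvd_card' (G := Fˣ) r (Nat.minFac_dvd _)
  have hd1 : d ≠ 1 := fun h1 => by rw [h1, orderOf_one] at hd; exact hr.ne_one hd.symm
  obtain ⟨e, he⟩ : ∃ e : Fˣ, e ∉ Subgroup.zpowers d := by
    by_contra! hcon
    apply hnp
    rw [← orderOf_eq_card_of_forall_mem_zpowers hcon, hd]
    exact hr
  let H : Subgroup SL(2, F) :=
    { carrier := {g | g.1 1 0 = 0 ∧ ∃ a ∈ Subgroup.zpowers d, g.1 0 0 = (a : F)}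
      one_mem' := ⟨by simp, 1, one_mem _, by simp⟩
      mul_mem' := by
        rintro g g' ⟨hg, a, ha, hga⟩ ⟨hg', a', ha', hga'⟩
        refine ⟨?_, a * a', mul_mem ha ha', ?_⟩
        · simp [Matrix.SpecialLinearGroup.coe_mul, Matrix.mul_apply, Fin.sum_univ_two, hg, hg']
        · simp [Matrix.SpecialLinearGroup.coe_mul, Matrix.mul_apply, Fin.sum_univ_two, hg', hga, hga']
      inv_mem' := by
        rintro g ⟨hg, a, ha, hga⟩
        have hdet := g.2
        rw [Matrix.det_fin_two, hg, mul_zero, sub_zero, hga] at hdet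
        refine ⟨?_, a⁻¹, inv_mem ha, ?_⟩
        · simp [Matrix.SpecialLinearGroup.coe_inv, Matrix.adjugate_fin_two, hg]
        · rw [Matrix.SpecialLinearGroup.coe_inv, Matrix.adjugate_fin_two]
          simpa [Units.val_inv_eq_inv_val] using (eq_inv_of_mul_eq_one_right hdet) }
  have hna : ¬ IsMulCommutative H := by
    intro hc
    have h1 : tri d 0 ∈ H := ⟨rfl, d, Subgroup.mem_zpowers d, rfl⟩
    have h2 : tri 1 1 ∈ H := ⟨rfl, 1, one_mem _, rfl⟩
    have h3 := congrArg (fun g : SL(2, F) => g.1 0 1) (comm_of_isMulCommutative hc h1 h2)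
    simp [coe_tri, Matrix.SpecialLinearGroup.coe_mul] at h3
    have hd2 : (d : F) * d = 1 := by
      conv_lhs => arg 2; rw [h3]
      exact mul_inv_cancel₀ d.ne_zero
    apply hd1
    ext
    rcases mul_self_eq_one_iff.1 hd2 with hh | hh
    · simpa using hh
    · simpa [CharTwo.neg_eq] using hh
  have hmem : tri e 0 ∈ Subgroup.normalizer (H : Set SL(2, F)) := by
    rw [Subgroup.mem_normalizer_iff_map_conj_eq]
    refine Subgroup.eq_of_le_of_card_ge ?_
      (Subgroup.card_map_of_injective (MulAut.conj (tri e 0)).injective).ge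
    rintro _ ⟨g, ⟨hg, a, ha, hga⟩, rfl⟩
    show tri e 0 * g * (tri e 0)⁻¹ ∈ H
    rw [tri_zero_inv]
    refine ⟨?_, a, ha, ?_⟩
    · simp [coe_tri, Matrix.SpecialLinearGroup.coe_mul, Matrix.mul_apply, Matrix.vecMul, dotProduct, Fin.sum_univ_two, hg]
    · simp [coe_tri, Matrix.SpecialLinearGroup.coe_mul, Matrix.mul_apply, Matrix.vecMul, dotProduct, Fin.sum_univ_two, hga]
      field_simp
  rw [h H hna] at hmem
  obtain ⟨-, a, ha, hea⟩ := hmem
  exact he ((Units.ext hea : e = a) ▸ ha)

/-- A non-abelian subgroup of the Borel subgroup is all of it, for `|F| - 1` prime. -/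
theorem eq_BP {F : Type*} [Field F] [Fintype F] [CharP F 2]
    (hq : (Fintype.card F - 1).Prime) {H : Subgroup PSL(2, F)} (hle : H ≤ BP)
    (hna : ¬ IsMulCommutative H) : H = BP := by
  classical
  have hchi : ∀ {x : PSL(2, F)}, x ∈ H → chi x⁻¹ = (chi x)⁻¹ := by
    intro x hx
    have h1 := chi_mul x⁻¹ (hle hx)
    rw [inv_mul_cancel, chi_one] at h1
    exact eq_inv_of_mul_eq_one_left h1.symm
  obtain ⟨a, ha, b, hb, hab⟩ : ∃ a ∈ H, ∃ b ∈ H, a * b ≠ b * a := by
    by_contra! hcon
    exact hna (isMulCommutative_of_forall hcon)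
  obtain ⟨h, hh, hh1⟩ : ∃ h ∈ H, chi h ≠ 1 := by
    by_contra! hcon
    obtain ⟨v, rfl⟩ := eq_u_of_chi_eq_one (hle ha) (hcon a ha)
    obtain ⟨w, rfl⟩ := eq_u_of_chi_eq_one (hle hb) (hcon b hb)
    exact hab (by rw [← u_add, ← u_add, add_comm])
  -- a non-trivial translation in `H`
  set c := a * b * a⁻¹ * b⁻¹ with hc
  have hcH : c ∈ H := mul_mem (mul_mem (mul_mem ha hb) (inv_mem ha)) (inv_mem hb)
  have hc1 : chi c = 1 := by
    rw [hc, chi_mul _ (hle (inv_mem hb)), chi_mul _ (hle (inv_mem ha)), chi_mul _ (hle hb),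
      hchi ha, hchi hb]
    field_simp [chi_ne_zero (hle ha), chi_ne_zero (hle hb)]
  obtain ⟨w, hw⟩ := eq_u_of_chi_eq_one (hle hcH) hc1
  have hw0 : w ≠ 0 := by
    rintro rfl
    rw [u_zero, hc, mul_inv_eq_one, mul_inv_eq_iff_eq_mul] at hw
    exact hab hw
  -- powers of `h` realise every value of `chi`
  set χ : Fˣ := Units.mk0 (chi h) (chi_ne_zero (hle hh))
  have hpow : ∀ n : ℕ, chi (h ^ n) = chi h ^ n := by
    intro n
    induction n with
    | zero => simp [chi_one]
    | succ n ih => rw [pow_succ, chi_mul _ (hle hh), ih, pow_succ]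
  have hreach : ∀ e : F, e ≠ 0 → ∃ n : ℕ, chi (h ^ n) = e := by
    intro e he
    have hgen : Subgroup.zpowers χ = ⊤ := by
      apply Subgroup.eq_top_of_card_eq
      rw [Nat.card_zpowers, Nat.card_units, Nat.card_eq_fintype_card]
      refine ((Nat.dvd_prime hq).1 ?_).resolve_left fun h1 => hh1 ?_
      · rw [← Nat.card_eq_fintype_card, ← Nat.card_units]
        exact orderOf_dvd_natCard χ
      · exact congrArg Units.val (orderOf_eq_one_iff.1 h1)
    obtain ⟨n, hn⟩ := mem_powers_iff_mem_zpowers.2 (hgen.ge (Subgroup.mem_top (Units.mk0 e he)))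
    refine ⟨n, ?_⟩
    rw [hpow]
    simpa [χ] using congrArg Units.val hn
  have hu : ∀ v : F, u v ∈ H := by
    intro v
    rcases eq_or_ne v 0 with rfl | hv
    · rw [u_zero]; exact one_mem _
    obtain ⟨n, hn⟩ := hreach (v / w) (div_ne_zero hv hw0)
    have h1 := conj_u (hle (pow_mem hh n)) w
    rw [hn, div_mul_cancel₀ v hw0, ← hw] at h1
    rw [← h1]
    exact mul_mem (mul_mem (pow_mem hh n) hcH) (inv_mem (pow_mem hh n))
  refine le_antisymm hle fun y hy => ?_
  obtain ⟨n, hn⟩ := hreach (chi y) (chi_ne_zero hy)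
  have hz : (h ^ n)⁻¹ * y ∈ (BP : Subgroup PSL(2, F)) := mul_mem (inv_mem (hle (pow_mem hh n))) hy
  obtain ⟨v, hv⟩ := eq_u_of_chi_eq_one hz (by
    rw [chi_mul _ hy, hchi (pow_mem hh n), hn, inv_mul_cancel₀ (chi_ne_zero hy)])
  have := mul_mem (pow_mem hh n) (hu v)
  rwa [← hv, mul_inv_cancel_left] at this

/-- `PSL₂(2ⁿ)` with `2ⁿ - 1` prime: every non-abelian subgroup is self-normalizing. -/
theorem selfNormalizing_PSL2 {F : Type*} [Field F] [Fintype F] [CharP F 2]
    [IsSimpleGroup PSL(2, F)] (hq : (Fintype.card F - 1).Prime) :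
    SelfNormalizingNonabelian PSL(2, F) := by
  classical
  have := Fact.mk Nat.prime_two
  intro H hH
  refine le_antisymm (fun g hg => ?_) Subgroup.le_normalizer
  set N := Subgroup.normalizer (H : Set PSL(2, F))
  have hHN : H ≤ N := Subgroup.le_normalizer
  by_cases hNtop : N = ⊤
  · rcases (Subgroup.normalizer_eq_top_iff.1 hNtop).eq_bot_or_eq_top with h | h
    · exact absurd (isMulCommutative_of_forall (H := H) fun a ha b _ => by
        rw [h, Subgroup.mem_bot] at ha; simp [ha]) hH
    · rw [h]; exact Subgroup.mem_top g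
  rcases subgroup_cases 2 N with ⟨a, ha⟩ | ⟨x, hx, hle⟩ | ⟨-, h, -⟩ | ⟨-, h, -⟩ | ⟨-, h, -⟩ |
    ⟨K, iK, iK', ι, a, w, h | ⟨h, -⟩⟩
  · have hsub : conjS a H ≤ BP := (Subgroup.map_mono hHN).trans ha
    have hnaa : ¬ IsMulCommutative (conjS a H) := fun hc => hH
      (isMulCommutative_of_forall fun u hu v hv => (MulAut.conj a).injective (by
        rw [map_mul, map_mul]
        exact comm_of_isMulCommutative hc (Subgroup.mem_map_of_mem _ hu)
          (Subgroup.mem_map_of_mem _ hv)))
    have h1 : (MulAut.conj a) g ∈ conjS a H :=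
      (eq_BP hq hsub hnaa).ge (ha (Subgroup.mem_map_of_mem _ hg))
    obtain ⟨g', hg', he⟩ := h1
    rwa [← (MulAut.conj a).injective he]
  · -- the torus case
    have hnorm : ∀ {n}, n ∈ N → n * x * n⁻¹ ∈ torus x := fun hn =>
      (mem_normalizer_torus_iff hx).1 (hle hn)
    obtain ⟨n, hn2, hq2⟩ := FiniteField.card F 2
    have hodd : ∀ t ∈ torus x, t ^ 2 ∈ H → t ∈ H := by
      intro t ht ht2
      have hT : Odd (Nat.card (torus x)) := by
        rw [Nat.odd_iff]
        have hg1 : Nat.gcd 2 (Fintype.card F - 1) = 1 := by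
          refine Nat.coprime_two_left.2 ?_
          rw [hq2, Nat.odd_iff]
          have : 2 ∣ 2 ^ (n : ℕ) := dvd_pow_self 2 n.pos.ne'
          have := Nat.one_le_two_pow (n := (n : ℕ))
          omega
        have h2 : 2 ∣ Fintype.card F := hq2 ▸ dvd_pow_self 2 n.pos.ne'
        have := Fintype.one_lt_card (α := F)
        rcases card_torus hx with e | e <;> rw [hg1, one_mul] at e <;> omega
      exact mem_of_pow_mem ht2 (Nat.coprime_two_right.2
        (Odd.of_dvd_nat hT (Subgroup.orderOf_dvd_natCard _ ht)))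
    obtain ⟨s, hs, hsT⟩ : ∃ s ∈ H, s ∉ torus x := by
      by_contra! hcon
      exact hH (isMulCommutative_of_forall fun a ha b hb =>
        torus_comm hx (hcon a ha) (hcon b hb))
    have hsi := ((mem_or_inverts hx (hnorm (hHN hs))).resolve_left hsT).2
    have hin : ∀ t ∈ torus x, t ∈ N → t ∈ H := by
      intro t ht htN
      refine hodd t ht ?_
      have h1 : t * s * t⁻¹ ∈ H := (Subgroup.mem_normalizer_iff.1 htN s).1 hs
      have h2 := mul_mem h1 (inv_mem hs)
      have h3 := hsi t⁻¹ (inv_mem ht)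
      rw [inv_inv] at h3
      rw [mul_assoc t s, mul_assoc t, h3, ← sq] at h2
      exact h2
    by_cases hgT : g ∈ torus x
    · exact hin g hgT hg
    · have h1 := hin (s⁻¹ * g) (div_mem_torus hx (hnorm hg) (hnorm (hHN hs)) hgT hsT)
        (mul_mem (inv_mem (hHN hs)) hg)
      have := mul_mem hs h1
      rwa [mul_inv_cancel_left] at this
  · exact absurd rfl h
  · exact absurd rfl h
  · exact absurd rfl h
  · -- subfield groups
    let := iK
    let := iK'
    obtain ⟨n, hn2, hq2⟩ := FiniteField.card F 2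
    let : Algebra K F := ι.toAlgebra
    have hcharK : CharP K 2 := (ι.charP_iff_charP 2).2 inferInstance
    obtain ⟨k, hk2, hk⟩ := FiniteField.card K 2
    have hfin : Fintype.card F = Fintype.card K ^ Module.finrank K F :=
      Module.card_eq_pow_finrank (K := K) (V := F)
    have hkn : (n : ℕ) = k * Module.finrank K F := by
      apply Nat.pow_right_injective le_rfl
      show 2 ^ (n : ℕ) = 2 ^ _
      rw [← hq2, hfin, hk, pow_mul]
    have hdvd : 2 ^ (k : ℕ) - 1 ∣ Fintype.card F - 1 := by
      rw [hq2, hkn, pow_mul]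
      exact Nat.sub_dvd_pow_sub_pow (2 ^ (k : ℕ)) 1 _ |>.trans (by rw [one_pow])
    have hKcard : Nat.card PSL(2, K) = Fintype.card K * (Fintype.card K ^ 2 - 1) :=
      Linear.card_PSL_two_even (hk ▸ (Nat.even_pow.2 ⟨even_two, k.pos.ne'⟩))
    have hNcard : Nat.card N = Nat.card PSL(2, K) := by
      rw [← card_conjS a N, h]
      exact (Nat.card_congr (MonoidHom.ofInjective (psiS_injective ι w)).toEquiv).symm
    rcases (Nat.dvd_prime hq).1 hdvd with h1 | h1
    · have hK2 : Fintype.card K = 2 := by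
        have := Nat.one_le_two_pow (n := (k : ℕ))
        rw [hk]; omega
      have hc6 : Nat.card PSL(2, K) = 6 := by rw [hKcard, hK2]; norm_num
      -- `H` is all of a group of order `6`
      have hd : Nat.card H ∣ 6 := hc6 ▸ hNcard ▸ Subgroup.card_dvd_of_le hHN
      have hsmall : ∀ p : ℕ, p.Prime → Nat.card H ≠ p := fun p hp he => hH (by
        have := Fact.mk hp
        have := isCyclic_of_prime_card he
        exact IsCyclic.isMulCommutative)
      have h6 : Nat.card H = 6 := by
        have hmem : Nat.card H ∈ Nat.divisors 6 := Nat.mem_divisors.2 ⟨hd, by norm_num⟩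
        rw [show Nat.divisors 6 = {1, 2, 3, 6} from by decide] at hmem
        simp only [Finset.mem_insert, Finset.mem_singleton] at hmem
        rcases hmem with h | h | h | h
        · exact absurd (isMulCommutative_of_forall (H := H) fun u hu v _ => by
            rw [Subgroup.card_eq_one.1 h, Subgroup.mem_bot] at hu; simp [hu]) hH
        · exact absurd h (hsmall 2 Nat.prime_two)
        · exact absurd h (hsmall 3 Nat.prime_three)
        · exact h
      exact (Subgroup.eq_of_le_of_card_ge hHN (by rw [hNcard, hc6, h6])).ge hg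
    · exfalso
      apply hNtop
      apply Subgroup.eq_top_of_card_eq
      have hKF : Fintype.card K = Fintype.card F := by
        have := Nat.one_le_two_pow (n := (k : ℕ))
        have := Fintype.one_lt_card (α := F)
        rw [hk]; omega
      rw [hNcard, hKcard, hKF, ← Linear.card_PSL_two_even
        (hq2 ▸ (Nat.even_pow.2 ⟨even_two, n.pos.ne'⟩))]
  · exact absurd rfl h

/-- Simple groups with all non-abelian subgroups self-normalizing. -/
theorem iff_psl2_two_pow {G : Type*} [Group G] [Finite G] [IsSimpleGroup G]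
    (hna : ¬ IsMulCommutative G) :
    SelfNormalizingNonabelian G ↔ ∃ n : ℕ, 2 ≤ n ∧ (2 ^ n - 1).Prime ∧
      Nonempty (G ≃* Matrix.ProjectiveSpecialLinearGroup (Fin 2) (GaloisField 2 n)) := by
  classical
  constructor
  · intro h
    have hct : CAGroups.CommTransitive G := fun a b c ha hb hc hab hbc => by
      have := h.isMulCommutative_centralizer hna hb
      exact comm_of_isMulCommutative this (Subgroup.mem_centralizer_singleton_iff.2 hab)
        (Subgroup.mem_centralizer_singleton_iff.2 hbc.symm)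
    obtain ⟨F, iF, iFt, f, hf, hcard, ⟨e⟩⟩ := (CAGroups.iff_psl2 hna).1 hct
    have : CharP F 2 := charP_of_card_eq_prime_pow hcard
    have h4 : 4 ≤ Fintype.card F := hcard ▸ le_trans (by norm_num) (Nat.pow_le_pow_right two_pos hf)
    have hprime := prime_card_sub_one ((h.congr e).congr CAGroups.sl2EquivPSL2.symm) h4
    rw [hcard] at hprime
    have : Fintype (GaloisField 2 f) := Fintype.ofFinite _
    refine ⟨f, hf, hprime, ⟨e.trans (Linear.pslFieldCongr ?_)⟩⟩
    rw [hcard, ← Nat.card_eq_fintype_card, GaloisField.card 2 f (by omega)]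
  · rintro ⟨n, hn, hprime, ⟨e⟩⟩
    have : Fintype (GaloisField 2 n) := Fintype.ofFinite _
    have : IsSimpleGroup (Matrix.ProjectiveSpecialLinearGroup (Fin 2) (GaloisField 2 n)) :=
      e.symm.isSimpleGroup
    refine (selfNormalizing_PSL2 ?_).congr e.symm
    rwa [← Nat.card_eq_fintype_card, GaloisField.card 2 n (by omega)]

end CfsgLib.SelfNorm
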