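import Mathlib
import Cfsg.Agent.Transfer.Abelian

/-!
Groups in which every non-abelian subgroup is self-normalizing: structure lemmas.

* `card_prime_of_cyclic_selfNormalizing`: if every non-trivial cyclic subgroup is self-normalizing,
  the order is a prime.
* `SelfNorm.index_prime`: a self-centralizing normal abelian subgroup has prime index.
* `SelfNorm.exists_structure`: the structure of the non-perfect ones with abelian Sylow subgroups.
-/

set_option autoImplicit false

namespace CfsgLib.SelfNorm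

/-- Every non-abelian subgroup is its own normalizer. -/
def SelfNormalizingNonabelian (G : Type*) [Group G] : Prop :=
  ∀ H : Subgroup G, ¬ IsMulCommutative H → Subgroup.normalizer (H : Set G) = H

variable {G : Type*} [Group G]

theorem isMulCommutative_of_forall {H : Subgroup G} (h : ∀ a ∈ H, ∀ b ∈ H, a * b = b * a) :
    IsMulCommutative H :=
  ⟨⟨fun a b => Subtype.ext (h a a.2 b b.2)⟩⟩

theorem comm_of_isMulCommutative {H : Subgroup G} (h : IsMulCommutative H) {a b : G} (ha : a ∈ H)
    (hb : b ∈ H) : a * b = b * a :=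
  congrArg Subtype.val (h.is_comm.comm ⟨a, ha⟩ ⟨b, hb⟩)

theorem SelfNormalizingNonabelian.subgroup (h : SelfNormalizingNonabelian G) (M : Subgroup G) :
    SelfNormalizingNonabelian M := by
  intro H hH
  refine le_antisymm (fun g hg => ?_) Subgroup.le_normalizer
  have hH' : ¬ IsMulCommutative (H.map M.subtype) := fun hc => hH
    (isMulCommutative_of_forall fun a ha b hb => Subtype.ext
      (comm_of_isMulCommutative hc (Subgroup.mem_map_of_mem M.subtype ha)
        (Subgroup.mem_map_of_mem M.subtype hb)))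
  have h2 : (g : G) ∈ Subgroup.normalizer ((H.map M.subtype : Subgroup G) : Set G) :=
    Subgroup.le_normalizer_map M.subtype ⟨g, hg, rfl⟩
  rw [h _ hH'] at h2
  obtain ⟨g', hg', he⟩ := h2
  exact (Subtype.ext he : g' = g) ▸ hg'

/-- A subgroup normalized by a larger one is abelian. -/
theorem SelfNormalizingNonabelian.isMulCommutative (h : SelfNormalizingNonabelian G)
    {H M : Subgroup G} (hn : M ≤ Subgroup.normalizer (H : Set G)) (hne : ¬ M ≤ H) :
    IsMulCommutative H := by
  by_contra hc
  exact hne (h H hc ▸ hn)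

/-- If every non-trivial cyclic subgroup is self-normalizing, the order is a prime. -/
theorem card_prime_of_cyclic_selfNormalizing [Finite G] [Nontrivial G]
    (h : ∀ z : G, z ≠ 1 →
      Subgroup.normalizer ((Subgroup.zpowers z : Subgroup G) : Set G) ≤ Subgroup.zpowers z) :
    (Nat.card G).Prime := by
  -- a `p`-subgroup with non-trivial elements is cyclic of prime order and self-normalizing
  have key : ∀ (p : ℕ) [Fact p.Prime] (X : Subgroup G), IsPGroup p X → X ≠ ⊥ →
      Nat.card X = p ∧ Subgroup.normalizer (X : Set G) = X := by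
    intro p _ X hX hX1
    have : Nontrivial X := (Subgroup.nontrivial_iff_ne_bot X).2 hX1
    have := hX.center_nontrivial
    obtain ⟨z, hz⟩ := exists_prime_orderOf_dvd_card' (G := Subgroup.center X) p (by
      obtain ⟨n, hn, hn'⟩ := (hX.to_subgroup (Subgroup.center X)).nontrivial_iff_card.1 inferInstance
      exact hn' ▸ dvd_pow_self p hn.ne')
    have hzo : orderOf ((z : X) : G) = p := by rw [Subgroup.orderOf_coe, Subgroup.orderOf_coe, hz]
    have hz1 : ((z : X) : G) ≠ 1 := fun h1 => by
      rw [h1, orderOf_one] at hzo; exact (Fact.out : p.Prime).one_lt.ne hzo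
    have hXn : X ≤ Subgroup.normalizer ((Subgroup.zpowers ((z : X) : G) : Subgroup G) : Set G) := by
      refine fun a ha => (Subgroup.centralizer_le_normalizer _) ?_
      rw [Subgroup.mem_centralizer_iff]
      rintro _ ⟨i, rfl⟩
      exact (Commute.zpow_left (congrArg Subtype.val
        (Subgroup.mem_center_iff.1 z.2 ⟨a, ha⟩) : a * ((z : X) : G) = ((z : X) : G) * a).symm i).eq
    have hXz : X = Subgroup.zpowers ((z : X) : G) :=
      le_antisymm (hXn.trans (h _ hz1)) (Subgroup.zpowers_le.2 (z : X).2)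
    refine ⟨by rw [hXz, Nat.card_zpowers, hzo], le_antisymm ?_ Subgroup.le_normalizer⟩
    rw [hXz]
    exact h _ hz1
  set n := Nat.card G with hn
  have hn1 : n ≠ 1 := (Finite.one_lt_card).ne'
  set r := n.minFac with hr
  have hrp : r.Prime := Nat.minFac_prime hn1
  have := Fact.mk hrp
  obtain ⟨R⟩ : Nonempty (Sylow r G) := inferInstance
  obtain ⟨hRcard, -⟩ := key r (R : Subgroup G) R.isPGroup'
    (R.ne_bot_of_dvd_card (Nat.minFac_dvd n))
  have hcyc : IsCyclic (R : Subgroup G) := isCyclic_of_prime_card hRcard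
  have hcompl := IsCyclic.isComplement' rfl hcyc
  set K := (MonoidHom.transferSylow R (hcyc.normalizer_le_centralizer rfl)).ker
  by_contra hnp
  have hK : K ≠ ⊥ := fun hb => hnp (by
    rw [hb, Subgroup.isComplement'_bot_left] at hcompl
    rw [hn, ← Subgroup.card_top (G := G), ← hcompl, hRcard]
    exact hrp)
  obtain ⟨s, hs, hsK⟩ := Nat.exists_prime_and_dvd (K.one_lt_card_iff_ne_bot.2 hK).ne'
  have := Fact.mk hs
  obtain ⟨S⟩ : Nonempty (Sylow s K) := inferInstance
  have hX1 : (S : Subgroup K).map K.subtype ≠ ⊥ := by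
    rw [Ne, Subgroup.map_eq_bot_iff_of_injective _ K.subtype_injective]
    exact S.ne_bot_of_dvd_card hsK
  have hfr := Sylow.normalizer_sup_eq_top S
  rw [(key s _ (S.isPGroup'.map K.subtype) hX1).2,
    sup_eq_right.2 (Subgroup.map_subtype_le _)] at hfr
  rw [hfr, Subgroup.isComplement'_top_left] at hcompl
  exact R.ne_bot_of_dvd_card (Nat.minFac_dvd n) hcompl

/-- A self-centralizing normal abelian proper subgroup has prime index. -/
theorem SelfNormalizingNonabelian.index_prime [Finite G] (h : SelfNormalizingNonabelian G)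
    {C : Subgroup G} [C.Normal] (hself : Subgroup.centralizer (C : Set G) ≤ C) (hne : C ≠ ⊤) :
    C.index.Prime := by
  rw [Subgroup.index_eq_card]
  have : Nontrivial (G ⧸ C) := QuotientGroup.nontrivial_iff.2 hne
  refine card_prime_of_cyclic_selfNormalizing fun q hq g hg => ?_
  obtain ⟨z, rfl⟩ := QuotientGroup.mk_surjective q
  obtain ⟨g, rfl⟩ := QuotientGroup.mk_surjective g
  set π := QuotientGroup.mk' C
  set H := C ⊔ Subgroup.zpowers z with hH
  have hHna : ¬ IsMulCommutative H := fun hc => hq <| (QuotientGroup.eq_one_iff z).2 <| hself <|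
    Subgroup.mem_centralizer_iff.2 fun c hc' => comm_of_isMulCommutative hc
      (Subgroup.mem_sup_left hc') (Subgroup.mem_sup_right (Subgroup.mem_zpowers z))
  have hHmap : H = (Subgroup.zpowers (π z)).comap π := by
    rw [← MonoidHom.map_zpowers, Subgroup.comap_map_eq, QuotientGroup.ker_mk', sup_comm]
  have hgH : g ∈ Subgroup.normalizer (H : Set G) := by
    rw [hHmap]
    exact Subgroup.le_normalizer_comap π hg
  rw [h H hHna, hHmap] at hgH
  exact hgH

/-- Non-perfect non-abelian groups: there is a self-centralizing normal abelian subgroup of prime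
index. -/
theorem SelfNormalizingNonabelian.exists_abelian_prime_index [Finite G]
    (h : SelfNormalizingNonabelian G) (hna : ¬ IsMulCommutative G) (hperf : commutator G ≠ ⊤) :
    ∃ A : Subgroup G, A.Normal ∧ IsMulCommutative A ∧ Subgroup.centralizer (A : Set G) ≤ A ∧
      A.index.Prime := by
  have hnab : ∀ H : Subgroup G, H.Normal → H ≠ ⊤ → IsMulCommutative H := fun H hH hne =>
    h.isMulCommutative (M := ⊤) (by rw [Subgroup.normalizer_eq_top_iff.2 hH])
      fun hle => hne (top_le_iff.1 hle)
  obtain ⟨A, ⟨⟨hAc, hAne⟩, hmax⟩⟩ :=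
    (Set.toFinite {A : Subgroup G | commutator G ≤ A ∧ A ≠ ⊤}).exists_maximal
      ⟨commutator G, le_rfl, hperf⟩
  have hAn : A.Normal := Subgroup.Normal.of_commutator_le G hAc
  have hAab := hnab A hAn hAne
  have hself : Subgroup.centralizer (A : Set G) ≤ A := by
    intro x hx
    by_contra hxA
    -- `A` and `x` generate an abelian normal subgroup above `A`, hence everything
    set B := A ⊔ Subgroup.zpowers x
    have hB : B = ⊤ := by
      by_contra hB
      exact hxA (hmax ⟨hAc.trans le_sup_left, hB⟩ le_sup_left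
        (Subgroup.mem_sup_right (Subgroup.mem_zpowers x)))
    apply hna
    refine ⟨⟨fun a b => ?_⟩⟩
    have hgen : B = Subgroup.closure ((A : Set G) ∪ {x}) := by
      rw [Subgroup.closure_union, Subgroup.closure_eq, ← Subgroup.zpowers_eq_closure]
    have hcl : IsMulCommutative (Subgroup.closure ((A : Set G) ∪ {x})) := by
      refine Subgroup.isMulCommutative_closure ?_
      rintro u (hu | rfl) v (hv | rfl)
      · exact comm_of_isMulCommutative hAab hu hv
      · exact Subgroup.mem_centralizer_iff.1 hx u hu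
      · exact (Subgroup.mem_centralizer_iff.1 hx v hv).symm
      · rfl
    rw [← hgen, hB] at hcl
    exact comm_of_isMulCommutative hcl (Subgroup.mem_top a) (Subgroup.mem_top b)
  exact ⟨A, hAn, hAab, hself, h.index_prime hself hAne⟩

/-- The structure of a non-perfect non-abelian group with abelian Sylow subgroups: `K ⋊ ⟨y⟩` with
`K` abelian of order prime to `r`, `y` an `r`-element, and `C_K(y) = 1`. -/
theorem SelfNormalizingNonabelian.exists_structure [Finite G] (h : SelfNormalizingNonabelian G)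
    (hsyl : ∀ (r : ℕ) [Fact r.Prime] (T : Sylow r G), IsMulCommutative (T : Subgroup G))
    (hna : ¬ IsMulCommutative G) (hperf : commutator G ≠ ⊤) :
    ∃ (r : ℕ) (_ : Fact r.Prime) (y : G) (K : Subgroup G), K.Normal ∧ IsMulCommutative K ∧
      (∀ a ∈ K, (orderOf a).Coprime r) ∧ (∃ e, orderOf y = r ^ e) ∧
      K ⊔ Subgroup.zpowers y = ⊤ ∧ ∀ a ∈ K, a * y = y * a → a = 1 := by
  obtain ⟨A, hAn, hAab, hself, hrp⟩ := h.exists_abelian_prime_index hna hperf
  set r := A.index
  have := Fact.mk hrp
  -- an `r`-element outside `A`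
  obtain ⟨y, hyA, e, hye⟩ : ∃ y, y ∉ A ∧ ∃ e, orderOf y = r ^ e := by
    obtain ⟨T⟩ : Nonempty (Sylow r G) := inferInstance
    obtain ⟨y, hyT, hyA⟩ : ∃ y ∈ (T : Subgroup G), y ∉ A := by
      by_contra! hcon
      exact T.not_dvd_index (Subgroup.index_dvd_of_le hcon)
    obtain ⟨e, he⟩ := IsPGroup.iff_orderOf.1 T.isPGroup' ⟨y, hyT⟩
    exact ⟨y, hyA, e, by rw [← he, Subgroup.orderOf_mk]⟩
  have hcomm : ∀ {a b : G}, a ∈ A → b ∈ A → a * b = b * a := fun ha hb =>
    comm_of_isMulCommutative hAab ha hb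
  let K : Subgroup G :=
    { carrier := {a | a ∈ A ∧ (orderOf a).Coprime r}
      one_mem' := ⟨one_mem A, by simp⟩
      mul_mem' := fun {a b} ha hb => ⟨mul_mem ha.1 hb.1,
        (Nat.Coprime.mul_left ha.2 hb.2).coprime_dvd_left
          ((Commute.orderOf_mul_dvd_mul_orderOf (hcomm ha.1 hb.1)))⟩
      inv_mem' := fun {a} ha => ⟨inv_mem ha.1, by rw [orderOf_inv]; exact ha.2⟩ }
  have hKn : K.Normal := ⟨fun a ha g => ⟨hAn.conj_mem a ha.1 g, by
    rw [← MulAut.conj_apply, ← MulEquiv.coe_toMonoidHom,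
      orderOf_injective _ (MulAut.conj g).injective]
    exact ha.2⟩⟩
  have hKab : IsMulCommutative K := isMulCommutative_of_forall fun a ha b hb => hcomm ha.1 hb.1
  have hAy : A ⊔ Subgroup.zpowers y = ⊤ := by
    have hdvd := Subgroup.index_dvd_of_le (le_sup_left : A ≤ A ⊔ Subgroup.zpowers y)
    rcases (Nat.dvd_prime hrp).1 hdvd with h1 | h1
    · exact Subgroup.index_eq_one.1 h1
    · have h2 := Subgroup.eq_of_le_of_card_ge (le_sup_left : A ≤ A ⊔ Subgroup.zpowers y) (by
        have e1 := A.card_mul_index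
        have e2 := (A ⊔ Subgroup.zpowers y).card_mul_index
        rw [h1] at e2
        exact (Nat.eq_of_mul_eq_mul_right hrp.pos (e2.trans e1.symm)).le)
      exact absurd (h2.ge (Subgroup.mem_sup_right (Subgroup.mem_zpowers y))) hyA
  -- the `r`-part of `A` commutes with `y`
  have hsplit : ∀ a ∈ A, ∃ u k, u * k = a ∧ u * y = y * u ∧ u ∈ A ∧ k ∈ K := by
    intro a ha
    have ha0 : orderOf a ≠ 0 := (orderOf_pos a).ne'
    set R := r ^ (orderOf a).factorization r
    set m := orderOf a / R
    have hRm : R * m = orderOf a := Nat.ordProj_mul_ordCompl_eq_self _ r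
    have hcop : R.Coprime m := (Nat.coprime_ordCompl hrp ha0).pow_left _
    obtain ⟨t, ht1, ht0⟩ := Nat.chineseRemainder hcop 1 0
    refine ⟨a ^ t, (a ^ t)⁻¹ * a, mul_inv_cancel_left _ _, ?_, pow_mem ha t,
      mul_mem (inv_mem (pow_mem ha t)) ha, ?_⟩
    · have hu : (a ^ t) ^ R = 1 := by
        rw [← pow_mul, ← orderOf_dvd_iff_pow_eq_one, ← hRm, mul_comm R m]
        exact Nat.mul_dvd_mul (Nat.modEq_zero_iff_dvd.1 ht0) dvd_rfl
      -- the `r`-elements of `A` lie in every Sylow `r`-subgroup
      let S : Subgroup G :=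
        { carrier := {u | u ∈ A ∧ ∃ k : ℕ, u ^ r ^ k = 1}
          one_mem' := ⟨one_mem A, 0, one_pow _⟩
          mul_mem' := fun {u v} ⟨hu, i, hi⟩ ⟨hv, j, hj⟩ => ⟨mul_mem hu hv, i + j, by
            rw [(show Commute u v from hcomm hu hv).mul_pow, pow_add, pow_mul, hi, one_pow, one_mul,
              mul_comm, pow_mul, hj, one_pow]⟩
          inv_mem' := fun {u} ⟨hu, i, hi⟩ => ⟨inv_mem hu, i, by rw [inv_pow, hi, inv_one]⟩ }
      have hSn : S.Normal := ⟨fun u ⟨hu, i, hi⟩ g => ⟨hAn.conj_mem u hu g, i, by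
        rw [conj_pow, hi, mul_one, mul_inv_cancel]⟩⟩
      have hSp : IsPGroup r S := fun ⟨u, _, i, hi⟩ => ⟨i, Subtype.ext hi⟩
      obtain ⟨T, hT⟩ := (IsPGroup.of_card (n := e)
        (by rw [Nat.card_zpowers, hye]) : IsPGroup r (Subgroup.zpowers y)).exists_le_sylow
      exact comm_of_isMulCommutative (hsyl r T)
        (IsPGroup.le_sylow_of_normal hSp T ⟨pow_mem ha t, _, hu⟩) (hT (Subgroup.mem_zpowers y))
    · refine (Nat.coprime_ordCompl hrp ha0).symm.coprime_dvd_left ?_
      refine orderOf_dvd_of_pow_eq_one ?_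
      rw [((Commute.refl a).pow_left t).inv_left.mul_pow, inv_pow, ← pow_mul, inv_mul_eq_one,
        pow_eq_pow_iff_modEq]
      have h1 : t * m ≡ 1 * m [MOD R * m] := Nat.ModEq.mul_right' m ht1
      rw [hRm, one_mul] at h1
      exact h1
  -- `K ⟨y⟩` is normal and non-abelian, so everything
  set H := K ⊔ Subgroup.zpowers y with hH
  have hcentral : ∀ u ∈ A, u * y = y * u → ∀ b ∈ H, u * b = b * u := by
    intro u hu huy b hb
    have hle : H ≤ Subgroup.centralizer ({u} : Set G) := sup_le
      (fun k hk => Subgroup.mem_centralizer_singleton_iff.2 (hcomm hk.1 hu))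
      (Subgroup.zpowers_le.2 (Subgroup.mem_centralizer_singleton_iff.2 huy.symm))
    exact (Subgroup.mem_centralizer_singleton_iff.1 (hle hb)).symm
  have hAH : A ≤ Subgroup.normalizer (H : Set G) := by
    intro a ha
    obtain ⟨u, k, rfl, huy, hu, hk⟩ := hsplit a ha
    refine mul_mem ((Subgroup.centralizer_le_normalizer _) ?_)
      (Subgroup.le_normalizer (Subgroup.mem_sup_left hk))
    exact Subgroup.mem_centralizer_iff.2 fun b hb => (hcentral u hu huy b hb).symm
  have hHtop : H = ⊤ := by
    have hn : (⊤ : Subgroup G) ≤ Subgroup.normalizer (H : Set G) := hAy ▸ sup_le hAH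
      (Subgroup.zpowers_le.2 (Subgroup.le_normalizer
        (Subgroup.mem_sup_right (Subgroup.mem_zpowers y))))
    by_contra hne
    have hHab := h.isMulCommutative hn (fun hle => hne (top_le_iff.1 hle))
    refine hyA (hself (Subgroup.mem_centralizer_iff.2 fun a ha => ?_))
    obtain ⟨u, k, rfl, huy, hu, hk⟩ := hsplit a ha
    rw [mul_assoc, comm_of_isMulCommutative hHab (Subgroup.mem_sup_left hk)
      (Subgroup.mem_sup_right (Subgroup.mem_zpowers y)), ← mul_assoc, huy, mul_assoc]
  have hidx : (Nat.card K).Coprime K.index := by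
    have hKr : (Nat.card K).Coprime r := by
      refine (Nat.Prime.coprime_iff_not_dvd hrp).2 ?_ |>.symm
      intro hd
      obtain ⟨a, ha⟩ := exists_prime_orderOf_dvd_card' (G := K) r hd
      have h1 := a.2.2
      rw [Subgroup.orderOf_coe, ha] at h1
      exact hrp.one_lt.ne' ((Nat.coprime_self r).1 h1)
    refine (hKr.pow_right e).coprime_dvd_right ?_
    have hgen : (⊤ : Subgroup (G ⧸ K)) = Subgroup.zpowers (QuotientGroup.mk' K y) := by
      rw [← Subgroup.map_top_of_surjective _ (QuotientGroup.mk'_surjective K), ← hHtop,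
        Subgroup.map_sup, MonoidHom.map_zpowers, QuotientGroup.map_mk'_self, bot_sup_eq]
    rw [Subgroup.index_eq_card, ← Subgroup.card_top (G := G ⧸ K), hgen, Nat.card_zpowers, ← hye]
    exact orderOf_map_dvd _ _
  obtain ⟨-, hbot, hdec⟩ := Transfer.abelian_normal_hall K hKab hidx
  have hKy : K ⊓ Subgroup.zpowers y = ⊥ := by
    rw [eq_bot_iff]
    rintro a ⟨ha, hay⟩
    rw [Subgroup.mem_bot, ← orderOf_eq_one_iff]
    have h1 : orderOf a ∣ r ^ e :=
      hye ▸ Nat.card_zpowers y ▸ Subgroup.orderOf_dvd_natCard _ hay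
    exact Nat.eq_one_of_dvd_coprimes (ha.2.pow_right e) dvd_rfl h1
  refine ⟨r, inferInstance, y, K, hKn, hKab, fun a ha => ha.2, ⟨e, hye⟩, hHtop, fun a ha hay => ?_⟩
  -- `[K, y] ⟨y⟩` is normal and non-abelian, so everything
  set L := commutator G ⊓ K with hL
  have hLn : L.Normal := Subgroup.normal_inf_normal _ _
  set H2 := L ⊔ Subgroup.zpowers y with hH2
  have hz : ∀ z ∈ Subgroup.center G, z ∈ Subgroup.normalizer (H2 : Set G) := fun z hz =>
    Subgroup.centralizer_le_normalizer _
      (Subgroup.mem_centralizer_iff.2 fun b _ => Subgroup.mem_center_iff.1 hz b)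
  have hH2n : (⊤ : Subgroup G) ≤ Subgroup.normalizer (H2 : Set G) := by
    rw [← hHtop]
    refine sup_le ?_ (Subgroup.zpowers_le.2 (Subgroup.le_normalizer
      (Subgroup.mem_sup_right (Subgroup.mem_zpowers y))))
    rw [← hdec]
    exact sup_le (le_sup_left.trans Subgroup.le_normalizer) fun z hzk => hz z hzk.1
  have hH2top : H2 = ⊤ := by
    by_contra hne
    have hab := h.isMulCommutative hH2n (fun hle => hne (top_le_iff.1 hle))
    refine hna ⟨⟨fun u v => ?_⟩⟩
    have hle : (⊤ : Subgroup G) ≤ H2 ⊔ Subgroup.center G := by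
      rw [← hHtop]
      refine sup_le ?_ (le_sup_right.trans le_sup_left)
      rw [← hdec]
      exact sup_le (le_sup_left.trans le_sup_left) (inf_le_left.trans le_sup_right)
    obtain ⟨b, hb, z, hz, rfl⟩ := Subgroup.mem_sup_of_normal_right.1 (hle (Subgroup.mem_top u))
    obtain ⟨c, hc, w, hw, rfl⟩ := Subgroup.mem_sup_of_normal_right.1 (hle (Subgroup.mem_top v))
    exact ((show Commute b c from comm_of_isMulCommutative hab hb hc).mul_left
      (Subgroup.mem_center_iff.1 hz c).symm).mul_right
      (Commute.mul_left (Subgroup.mem_center_iff.1 hw b) (Subgroup.mem_center_iff.1 hw z))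
  obtain ⟨c, hc, w, hw, rfl⟩ := Subgroup.mem_sup_of_normal_left.1
    (hH2top ▸ Subgroup.mem_top a : a ∈ H2)
  have hw1 : w ∈ K ⊓ Subgroup.zpowers y := ⟨by simpa using K.mul_mem (K.inv_mem hc.2) ha, hw⟩
  rw [hKy, Subgroup.mem_bot] at hw1
  subst hw1
  rw [mul_one] at ha hay ⊢
  have hcz : c ∈ Subgroup.center G := by
    rw [Subgroup.mem_center_iff]
    intro b
    have hle : H ≤ Subgroup.centralizer ({c} : Set G) := sup_le
      (fun k hk => Subgroup.mem_centralizer_singleton_iff.2 (hcomm hk.1 ha.1))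
      (Subgroup.zpowers_le.2 (Subgroup.mem_centralizer_singleton_iff.2 hay.symm))
    exact Subgroup.mem_centralizer_singleton_iff.1 (hle (hHtop.ge (Subgroup.mem_top b)))
  exact Subgroup.mem_bot.1 (hbot ▸ ⟨hc, hcz, ha⟩)

end CfsgLib.SelfNorm
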