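import Cfsg.Agent.SelfNorm.Basic
import Cfsg.Agent.Transfer.Frobenius

/-!
Simple groups in which every non-abelian subgroup is self-normalizing have abelian centralizers.
-/

set_option autoImplicit false

namespace CfsgLib.SelfNorm

open scoped commutatorElement

variable {G : Type*} [Group G]

theorem pow_eq_one_of_coprime {a : G} {m n : ℕ} (hm : a ^ m = 1) (hn : a ^ n = 1)
    (h : m.Coprime n) : a = 1 := by
  simpa [h] using pow_gcd_eq_one.2 ⟨hm, hn⟩

/-- An element of order prime to `p` whose `p`-th power lies in `C` lies in `C`. -/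
theorem mem_of_pow_mem {C : Subgroup G} {g : G} {p : ℕ} (hp : g ^ p ∈ C)
    (hg : (orderOf g).Coprime p) : g ∈ C := by
  obtain ⟨m, hm⟩ := exists_pow_eq_self_of_coprime (n := p) hg.symm
  rw [← hm]
  exact pow_mem hp m

theorem center_eq_bot [IsSimpleGroup G] (hna : ¬ IsMulCommutative G) : Subgroup.center G = ⊥ :=
  (inferInstance : (Subgroup.center G).Normal).eq_bot_or_eq_top.resolve_right fun ht =>
    hna ⟨⟨fun x y => Subgroup.mem_center_iff.1 (ht ▸ Subgroup.mem_top y) x⟩⟩

theorem not_isPGroup [Finite G] [IsSimpleGroup G] (hna : ¬ IsMulCommutative G) {p : ℕ}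
    [Fact p.Prime] : ¬ IsPGroup p G := fun hG => by
  have : Nontrivial G := IsSimpleGroup.toNontrivial
  exact (Subgroup.nontrivial_iff_ne_bot _).1 hG.center_nontrivial (center_eq_bot hna)

theorem false_of_complement [Finite G] [IsSimpleGroup G] (hna : ¬ IsMulCommutative G) {p : ℕ}
    [Fact p.Prime] (P : Sylow p G) (hP : (P : Subgroup G) ≠ ⊥) {K : Subgroup G} (hK : K.Normal)
    (hc : K.IsComplement' (P : Subgroup G)) : False := by
  rcases hK.eq_bot_or_eq_top with hb | ht
  · rw [hb, Subgroup.isComplement'_bot_left] at hc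
    exact not_isPGroup hna ((hc ▸ P.isPGroup' : IsPGroup p (⊤ : Subgroup G)).of_equiv Subgroup.topEquiv)
  · rw [ht, Subgroup.isComplement'_top_left] at hc
    exact hP hc

theorem normalizer_ne_top [IsSimpleGroup G] {Q : Subgroup G} (h1 : Q ≠ ⊥) (h2 : Q ≠ ⊤) :
    Subgroup.normalizer (Q : Set G) ≠ ⊤ := fun he => by
  rcases (Subgroup.normalizer_eq_top_iff.1 he).eq_bot_or_eq_top with h | h
  exacts [h1 h, h2 h]

/-- The Sylow subgroups are abelian. -/
theorem SelfNormalizingNonabelian.isMulCommutative_sylow [Finite G] [IsSimpleGroup G]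
    (h : SelfNormalizingNonabelian G) (hna : ¬ IsMulCommutative G) (p : ℕ) [Fact p.Prime]
    (P : Sylow p G) : IsMulCommutative (P : Subgroup G) := by
  by_contra hP
  have hPne : (P : Subgroup G) ≠ ⊥ := fun hb => hP (isMulCommutative_of_forall (by
    intro a ha b hb'
    rw [hb, Subgroup.mem_bot] at ha
    simp [ha]))
  suffices hc : Cfsg.HasNormalPComplement p G by
    obtain ⟨K, hK, hcompl⟩ := Transfer.exists_isComplement' hc P
    exact false_of_complement hna P hPne hK hcompl
  refine Transfer.hasNormalPComplement_of_local P fun Q hQ g hg hgp => ?_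
  by_contra hgQ
  have hQ1 : Q ≠ ⊥ := by
    rintro rfl
    exact hgQ (fun q hq => by rw [SetLike.mem_coe, Subgroup.mem_bot] at hq; simp [hq])
  have hQp : IsPGroup p Q := P.isPGroup'.to_le hQ
  have hQt : Q ≠ ⊤ := fun ht => not_isPGroup hna ((ht ▸ hQp).of_equiv Subgroup.topEquiv)
  set M := Subgroup.normalizer (Q : Set G) with hM
  have hQM : Q ≤ M := Subgroup.le_normalizer
  have hQab : IsMulCommutative Q := h.isMulCommutative le_rfl fun hle => by
    obtain ⟨n, hn⟩ := IsPGroup.iff_orderOf.1 hQp ⟨g, hle hg⟩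
    rw [Subgroup.orderOf_mk] at hn
    have h1 : orderOf g = 1 := Nat.eq_one_of_dvd_coprimes (hgp.pow_right n) dvd_rfl hn.dvd
    rw [orderOf_eq_one_iff] at h1
    exact hgQ (h1 ▸ one_mem _)
  set C := M ⊓ Subgroup.centralizer (Q : Set G) with hC
  have hQC : Q ≤ C := le_inf hQM fun a ha => Subgroup.mem_centralizer_iff.2 fun b hb =>
    comm_of_isMulCommutative hQab hb ha
  have hconjC : ∀ {N : Subgroup G}, N ≤ Subgroup.normalizer (Q : Set G) →
      ∀ {a b : G}, a ∈ N → b ∈ Subgroup.centralizer (Q : Set G) →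
        a * b * a⁻¹ ∈ Subgroup.centralizer (Q : Set G) := by
    intro N hN a b ha hb
    rw [Subgroup.mem_centralizer_iff] at hb ⊢
    intro q hq
    have h1 := hb _ ((Subgroup.mem_normalizer_iff''.1 (hN ha) q).1 hq)
    calc q * (a * b * a⁻¹) = a * ((a⁻¹ * q * a) * b) * a⁻¹ := by group
      _ = a * (b * (a⁻¹ * q * a)) * a⁻¹ := by rw [h1]
      _ = a * b * a⁻¹ * q := by group
  have hMC : M ≤ Subgroup.normalizer (C : Set G) := by
    rw [Subgroup.le_normalizer_iff]
    exact fun a ha b hb => ⟨M.mul_mem (M.mul_mem ha hb.1) (M.inv_mem ha), hconjC le_rfl ha hb.2⟩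
  have hgC : g ∉ C := fun hgc => hgQ hgc.2
  have hCab : IsMulCommutative C := h.isMulCommutative hMC fun hle => hgC (hle hg)
  have hCn : (C.subgroupOf M).Normal :=
    (Subgroup.normal_subgroupOf_iff_le_normalizer inf_le_left).2 hMC
  have hr := (h.subgroup M).index_prime (C := C.subgroupOf M) (by
      intro x hx
      refine ⟨x.2, Subgroup.mem_centralizer_iff.2 fun q hq => ?_⟩
      exact congrArg Subtype.val (Subgroup.mem_centralizer_iff.1 hx ⟨q, hQM hq⟩ (hQC hq)))
    (fun ht => hgC ((Subgroup.subgroupOf_eq_top.1 ht) hg))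
  set r := (C.subgroupOf M).index with hrdef
  have hpowC : ∀ x ∈ M, x ^ r ∈ C := fun x hx =>
    Subgroup.mem_subgroupOf.1 (Subgroup.pow_index_mem (C.subgroupOf M) ⟨x, hx⟩)
  have hrp : r ≠ p := fun hrp => hgC (mem_of_pow_mem (hrp ▸ hpowC g hg) hgp)
  -- the `p`-part `S` of `C`
  let S : Subgroup G :=
    { carrier := {u | u ∈ C ∧ ∃ k : ℕ, u ^ p ^ k = 1}
      one_mem' := ⟨one_mem C, 0, one_pow _⟩
      mul_mem' := fun {u v} ⟨hu, i, hi⟩ ⟨hv, j, hj⟩ => ⟨mul_mem hu hv, i + j, by
        rw [(show Commute u v from comm_of_isMulCommutative hCab hu hv).mul_pow, pow_add, pow_mul,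
          hi, one_pow, one_mul, mul_comm, pow_mul, hj, one_pow]⟩
      inv_mem' := fun {u} ⟨hu, i, hi⟩ => ⟨inv_mem hu, i, by rw [inv_pow, hi, inv_one]⟩ }
  have hSp : IsPGroup p S := fun ⟨u, _, i, hi⟩ => ⟨i, Subtype.ext hi⟩
  have hQS : Q ≤ S := fun a ha => by
    obtain ⟨k, hk⟩ := hQp ⟨a, ha⟩
    exact ⟨hQC ha, k, congrArg Subtype.val hk⟩
  have hMS : M ≤ Subgroup.normalizer (S : Set G) := by
    rw [Subgroup.le_normalizer_iff]
    rintro a ha b ⟨hb, i, hi⟩
    exact ⟨(Subgroup.le_normalizer_iff.1 hMC) a ha b hb, i,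
      by rw [conj_pow, hi, mul_one, mul_inv_cancel]⟩
  set M1 := Subgroup.normalizer (S : Set G) with hM1
  set C1 := M1 ⊓ Subgroup.centralizer (S : Set G) with hC1
  have hM1C1 : M1 ≤ Subgroup.normalizer (C1 : Set G) := by
    rw [Subgroup.le_normalizer_iff]
    intro a ha b hb
    refine ⟨M1.mul_mem (M1.mul_mem ha hb.1) (M1.inv_mem ha),
      Subgroup.mem_centralizer_iff.2 fun q hq => ?_⟩
    have h1 := Subgroup.mem_centralizer_iff.1 hb.2 _ ((Subgroup.mem_normalizer_iff''.1 ha q).1 hq)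
    calc q * (a * b * a⁻¹) = a * ((a⁻¹ * q * a) * b) * a⁻¹ := by group
      _ = a * (b * (a⁻¹ * q * a)) * a⁻¹ := by rw [h1]
      _ = a * b * a⁻¹ * q := by group
  have hCC1 : C ≤ C1 := le_inf (inf_le_left.trans hMS) fun a ha =>
    Subgroup.mem_centralizer_iff.2 fun b hb => comm_of_isMulCommutative hCab hb.1 ha
  have hC1Q : C1 ≤ Subgroup.centralizer (Q : Set G) :=
    inf_le_right.trans (Subgroup.centralizer_le hQS)
  have hgC1 : g ∉ C1 := fun hg1 => hgQ (hC1Q hg1)
  have hC1C : C1 = C :=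
    le_antisymm (le_inf (hC1Q.trans (Subgroup.centralizer_le_normalizer _)) hC1Q) hCC1
  have hCn1 : (C.subgroupOf M1).Normal :=
    (Subgroup.normal_subgroupOf_iff_le_normalizer (hC1C ▸ inf_le_left)).2 (hC1C ▸ hM1C1)
  have hr1 := (h.subgroup M1).index_prime (C := C.subgroupOf M1) (by
      intro x hx
      show (x : G) ∈ C
      rw [← hC1C]
      refine ⟨x.2, Subgroup.mem_centralizer_iff.2 fun q hq => ?_⟩
      exact congrArg Subtype.val
        (Subgroup.mem_centralizer_iff.1 hx ⟨q, Subgroup.le_normalizer hq⟩ (show q ∈ C from hq.1)))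
    (fun ht => hgC ((Subgroup.subgroupOf_eq_top.1 ht) (hMS hg)))
  have hM1M : M1 = M := by
    have h1 := Subgroup.relIndex_mul_relIndex C M M1 inf_le_left hMS
    have h2 : C.relIndex M1 = (C.subgroupOf M1).index := rfl
    rw [show C.relIndex M = r from rfl, h2] at h1
    rcases Nat.prime_mul_iff.1 (h1 ▸ hr1) with ⟨-, h3⟩ | ⟨-, h3⟩
    · exact le_antisymm (Subgroup.relIndex_eq_one.1 h3) hMS
    · exact absurd h3 hr.ne_one
  -- a larger `p`-subgroup normalizing `S`
  obtain ⟨P', hSP⟩ := hSp.exists_le_sylow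
  have hlt : S < (P' : Subgroup G) := lt_of_le_of_ne hSP fun he => by
    apply hP
    obtain ⟨a, ha⟩ := MulAction.exists_smul_eq G P P'
    refine isMulCommutative_of_forall fun x hx y hy => ?_
    have hmem : ∀ z ∈ (P : Subgroup G), a * z * a⁻¹ ∈ C := fun z hz => by
      have h1 : a * z * a⁻¹ ∈ S := by rw [he, ← ha]; exact ⟨z, hz, rfl⟩
      exact h1.1
    have h1 := comm_of_isMulCommutative hCab (hmem x hx) (hmem y hy)
    calc x * y = a⁻¹ * ((a * x * a⁻¹) * (a * y * a⁻¹)) * a := by group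
      _ = a⁻¹ * ((a * y * a⁻¹) * (a * x * a⁻¹)) * a := by rw [h1]
      _ = y * x := by group
  obtain ⟨z, hz, hzS⟩ := SetLike.exists_of_lt
    (Transfer.lt_inf_normalizer P'.isPGroup' hlt)
  obtain ⟨k, hk⟩ := P'.isPGroup' ⟨z, hz.1⟩
  have hzk : z ^ p ^ k = 1 := congrArg Subtype.val hk
  have hzC : z ∈ C := mem_of_pow_mem (hpowC z (hM1M ▸ hz.2))
    (((Nat.coprime_primes (Fact.out : p.Prime) hr).2 hrp.symm).pow_left k |>.coprime_dvd_left
      (orderOf_dvd_of_pow_eq_one hzk))
  exact hzS ⟨hzC, k, hzk⟩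

/-- Abelian Sylow subgroups pass to subgroups. -/
theorem isMulCommutative_sylow_subgroup [Finite G]
    (hsyl : ∀ (r : ℕ) [Fact r.Prime] (T : Sylow r G), IsMulCommutative (T : Subgroup G))
    (M : Subgroup G) (r : ℕ) [Fact r.Prime] (T : Sylow r M) :
    IsMulCommutative (T : Subgroup M) := by
  obtain ⟨T', hT'⟩ := (T.isPGroup'.map M.subtype).exists_le_sylow
  exact isMulCommutative_of_forall fun a ha b hb => Subtype.ext
    (comm_of_isMulCommutative (hsyl r T') (hT' (Subgroup.mem_map_of_mem _ ha))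
      (hT' (Subgroup.mem_map_of_mem _ hb)))

/-- The centralizers of the non-identity elements are abelian. -/
theorem SelfNormalizingNonabelian.isMulCommutative_centralizer [Finite G] [IsSimpleGroup G]
    (h : SelfNormalizingNonabelian G) (hna : ¬ IsMulCommutative G) {x : G} (hx : x ≠ 1) :
    IsMulCommutative (Subgroup.centralizer ({x} : Set G)) := by
  by_contra hMna
  set M := Subgroup.centralizer ({x} : Set G) with hM
  have hxM : x ∈ M := Subgroup.mem_centralizer_singleton_iff.2 rfl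
  set x' : M := ⟨x, hxM⟩
  have hxcen : x' ∈ Subgroup.center M := Subgroup.mem_center_iff.2 fun b =>
    Subtype.ext (Subgroup.mem_centralizer_singleton_iff.1 b.2)
  have hsylG := fun (p : ℕ) [Fact p.Prime] (P : Sylow p G) => h.isMulCommutative_sylow hna p P
  have hsylM := fun (r : ℕ) [Fact r.Prime] (T : Sylow r M) =>
    isMulCommutative_sylow_subgroup hsylG M r T
  -- not perfect
  have hperf : commutator M ≠ ⊤ := by
    intro htop
    have hx1 : orderOf x' ≠ 1 := fun h1 => hx (congrArg Subtype.val (orderOf_eq_one_iff.1 h1))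
    obtain ⟨s, hs, hsd⟩ := Nat.exists_prime_and_dvd hx1
    have := Fact.mk hs
    set z := x' ^ (orderOf x' / s)
    have hzo : orderOf z = s := orderOf_pow_orderOf_div (orderOf_pos x').ne' hsd
    obtain ⟨T, hT⟩ := (IsPGroup.of_card (n := 1)
      (by rw [Nat.card_zpowers, hzo, pow_one]) : IsPGroup s (Subgroup.zpowers z)).exists_le_sylow
    have hmem : z ∈ (T : Subgroup M) ⊓ commutator M ⊓ Subgroup.center M :=
      ⟨⟨hT (Subgroup.mem_zpowers z), htop ▸ Subgroup.mem_top z⟩, pow_mem hxcen _⟩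
    rw [Transfer.inf_commutator_inf_center_eq_bot _ (hsylM s T) T.card_coprime_index,
      Subgroup.mem_bot] at hmem
    rw [hmem, orderOf_one] at hzo
    exact hs.one_lt.ne hzo
  obtain ⟨r, hr, y, K, hKn, hKab, hKr, ⟨e, hye⟩, hKy, hfpf⟩ :=
    (h.subgroup M).exists_structure hsylM hMna hperf
  have hdecomp : ∀ b : M, ∃ k ∈ K, ∃ c ∈ Subgroup.zpowers y, k * c = b := fun b =>
    Subgroup.mem_sup_of_normal_left.1 (hKy.ge (Subgroup.mem_top b))
  have hcy : ∀ b : M, b * y = y * b → b ∈ Subgroup.zpowers y := by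
    intro b hb
    obtain ⟨k, hk, c, hc, rfl⟩ := hdecomp b
    obtain ⟨i, rfl⟩ := hc
    have hk1 : k * y = y * k := by
      have h1 : Commute (k * y ^ i) y := hb
      have h2 := h1.mul_left ((Commute.refl y).zpow_left i).inv_left
      rw [mul_inv_cancel_right] at h2
      exact h2.eq
    rw [hfpf k hk hk1, one_mul]
    exact Subgroup.zpow_mem_zpowers y i
  obtain ⟨i, hi⟩ := hcy x' (Subgroup.mem_center_iff.1 hxcen y).symm
  -- the cyclic Sylow `r`-subgroup
  set yG : G := (y : G) with hyG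
  obtain ⟨R, hR⟩ := (IsPGroup.of_card (n := e) (by
    rw [Nat.card_zpowers, hyG, Subgroup.orderOf_coe, hye]) :
    IsPGroup r (Subgroup.zpowers yG)).exists_le_sylow
  have hxi : x = yG ^ i := (congrArg Subtype.val hi).symm.trans (Subgroup.coe_zpow M y i)
  have hRy : (R : Subgroup G) = Subgroup.zpowers yG := by
    refine le_antisymm (fun a ha => ?_) hR
    have hay := comm_of_isMulCommutative (hsylG r R) ha (hR (Subgroup.mem_zpowers yG))
    have haM : a ∈ M := Subgroup.mem_centralizer_singleton_iff.2 (by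
      rw [hxi]; exact ((show Commute a yG from hay).zpow_right i).eq)
    obtain ⟨j, hj⟩ := hcy ⟨a, haM⟩ (Subtype.ext hay)
    exact ⟨j, (Subgroup.coe_zpow M y j).symm.trans (congrArg Subtype.val hj)⟩
  have hN : Subgroup.normalizer ((R : Subgroup G) : Set G) ≤
      Subgroup.centralizer ((R : Subgroup G) : Set G) := by
    intro g hg
    rw [hRy] at hg ⊢
    have hgy := (Subgroup.mem_normalizer_iff.1 hg yG).1 (Subgroup.mem_zpowers yG)
    obtain ⟨j, hj⟩ := hgy
    have hgx : g * x * g⁻¹ = x ^ j := by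
      rw [hxi, ← conj_zpow, ← hj, ← zpow_mul, ← zpow_mul, mul_comm]
    -- `g` normalizes `C(x)`
    have hgM : g ∈ M := by
      have hgn : g ∈ Subgroup.normalizer (M : Set G) := by
        rw [Subgroup.mem_normalizer_iff_map_conj_eq]
        refine Subgroup.eq_of_le_of_card_ge ?_
          (Subgroup.card_map_of_injective (MulAut.conj g).injective).ge
        rintro _ ⟨b, hb, rfl⟩
        have hbx : Commute b x := Subgroup.mem_centralizer_singleton_iff.1 hb
        refine Subgroup.mem_centralizer_singleton_iff.2 ?_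
        show Commute (g * b * g⁻¹) x
        have h1 : Commute (g * b * g⁻¹) (x ^ j) := by
          rw [← hgx]
          exact hbx.map (MulAut.conj g).toMonoidHom
        -- `x` is a power of `x ^ j`
        have hord : orderOf (x ^ j) = orderOf x := by
          rw [← hgx]
          exact orderOf_injective (MulAut.conj g).toMonoidHom (MulAut.conj g).injective x
        have hz : Subgroup.zpowers (x ^ j) = Subgroup.zpowers x :=
          Subgroup.eq_of_le_of_card_ge (Subgroup.zpowers_le.2 (Subgroup.zpow_mem_zpowers x j))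
            (by rw [Nat.card_zpowers, Nat.card_zpowers, hord])
        obtain ⟨l, hl⟩ := hz.ge (Subgroup.mem_zpowers x)
        rw [← hl]
        exact h1.zpow_right l
      rwa [h M hMna] at hgn
    obtain ⟨k, hk, c, ⟨l, rfl⟩, hkc⟩ := hdecomp ⟨g, hgM⟩
    have hkg : (k : G) = g * (yG ^ l)⁻¹ := by
      rw [eq_mul_inv_iff_mul_eq, hyG, ← Subgroup.coe_zpow]
      exact congrArg Subtype.val hkc
    have hkn : (k : G) * yG * (k : G)⁻¹ = yG ^ j := by
      have h2 : (yG ^ l)⁻¹ * yG * yG ^ l = yG := by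
        rw [mul_assoc, ((Commute.refl yG).zpow_right l).eq, inv_mul_cancel_left]
      calc (k : G) * yG * (k : G)⁻¹ = g * ((yG ^ l)⁻¹ * yG * yG ^ l) * g⁻¹ := by rw [hkg]; group
        _ = g * yG * g⁻¹ := by rw [h2]
        _ = yG ^ j := hj.symm
    -- `[k, y]` lies in `K` and in `⟨y⟩`
    have hk1 : k * y = y * k := by
      have hcK : k * y * k⁻¹ * y⁻¹ ∈ K := by
        rw [show k * y * k⁻¹ * y⁻¹ = k * (y * k⁻¹ * y⁻¹) by group]
        exact mul_mem hk (hKn.conj_mem _ (inv_mem hk) y)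
      have heq : k * y * k⁻¹ = y ^ j := Subtype.ext (by
        rw [Subgroup.coe_mul, Subgroup.coe_mul, Subgroup.coe_inv, Subgroup.coe_zpow]
        exact hkn)
      rw [heq] at hcK
      have hd : orderOf (y ^ j * y⁻¹) ∣ r ^ e :=
        (Subgroup.orderOf_dvd_natCard (Subgroup.zpowers y)
          (mul_mem (Subgroup.zpow_mem_zpowers y j) (inv_mem (Subgroup.mem_zpowers y)))).trans
          (hye ▸ (Nat.card_zpowers y).dvd)
      have h1 : y ^ j * y⁻¹ = 1 := orderOf_eq_one_iff.1
        (Nat.eq_one_of_dvd_coprimes ((hKr _ hcK).pow_right e) dvd_rfl hd)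
      rw [← mul_inv_eq_iff_eq_mul, heq]
      exact mul_inv_eq_one.1 h1
    rw [Subgroup.mem_centralizer_iff]
    rintro _ ⟨m, rfl⟩
    have hgk : g = (k : G) * yG ^ l := by rw [hkg, inv_mul_cancel_right]
    rw [hgk]
    exact ((Commute.mul_left (congrArg Subtype.val hk1 : (k : G) * yG = yG * k)
      ((Commute.refl yG).zpow_left l)).zpow_right m).symm.eq
  refine false_of_complement hna R ?_ inferInstance (MonoidHom.ker_transferSylow_isComplement' R hN)
  intro hb
  rw [hRy, Subgroup.zpowers_eq_bot] at hb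
  exact hx (by rw [hxi, hb, one_zpow])

end CfsgLib.SelfNorm
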